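import Cfsg.Agent.KZ.Alt.Tab
import Cfsg.Agent.Characters.Brauer
import Cfsg.Agent.Blocks.ExistsModular

/-!
# KZ: the symmetric groups for the classical rows (helper30)

* `young`, `young_gen` : the Young permutation characters span the character ring, in the form of averages;
* `irr_int` : the values are integers;
* `n3 α` : the number of irreducible characters of degree prime to `3`, `exists_fam`, and lower bounds.
-/

set_option autoImplicit false
set_option maxHeartbeats 200000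
set_option linter.unusedSectionVars false

namespace Cfsg.Agent.KZ.Sym

open Finset Cfsg Cfsg.Agent.H614 Cfsg.Agent.Characters.Core Equiv

universe u

section perm

variable {G : Type*} [Group G] [Fintype G] {V : Type*} [AddCommGroup V] [Module ℂ V]

/-- averages against a permutation character -/
theorem perm_mem (X : Type*) [MulAction G X] [Finite X] (Λ : AddSubgroup V) (r : G → V)
    (hr : ∀ g h, r (h * g * h⁻¹) = r g)
    (hX : ∀ x : X, (Nat.card (MulAction.stabilizer G x) : ℂ)⁻¹ • ∑ᶠ u : MulAction.stabilizer G x, r u ∈ Λ) :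
    (Nat.card G : ℂ)⁻¹ • ∑ g, (Nat.card (MulAction.fixedBy X g) : ℂ) • r g ∈ Λ := by
  classical
  have := Fintype.ofFinite X
  have := Fintype.ofFinite (MulAction.orbitRel.Quotient G X)
  let s : X → V := fun x => ∑ g ∈ univ.filter (fun g : G => g • x = x), r g
  have h1 : ∑ g, (Nat.card (MulAction.fixedBy X g) : ℂ) • r g = ∑ x, s x := by
    simp only [s, Finset.sum_filter]
    rw [Finset.sum_comm]
    refine Finset.sum_congr rfl fun g _ => ?_
    rw [← Finset.sum_filter, Finset.sum_const, Nat.cast_smul_eq_nsmul]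
    congr 1
    rw [← Nat.card_eq_finsetCard]
    exact Nat.card_congr (Equiv.subtypeEquivRight fun x => by simp)
  have h2 : ∀ (h : G) (x : X), s (h • x) = s x := by
    intro h x
    symm
    refine Finset.sum_equiv (MulAut.conj h).toEquiv (fun g => ?_) fun g _ => (hr g h).symm
    simp only [Finset.mem_filter, Finset.mem_univ, true_and, MulEquiv.toEquiv_eq_coe, EquivLike.coe_coe,
      MulAut.conj_apply, mul_smul, inv_smul_smul, smul_left_cancel_iff]
  have h3 : ∀ x : X, ∑ᶠ u : MulAction.stabilizer G x, r u = s x := by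
    intro x
    rw [finsum_eq_sum_of_fintype]
    exact (Finset.sum_subtype _ (fun g => by simp) r).symm
  rw [h1, ← Finset.sum_fiberwise (univ : Finset X) (fun x => (Quotient.mk'' x : MulAction.orbitRel.Quotient G X)),
    Finset.smul_sum]
  refine Λ.sum_mem fun q _ => ?_
  induction q using Quotient.inductionOn' with
  | h x =>
    have h4 : ∀ y ∈ univ.filter (fun y : X => (Quotient.mk'' y : MulAction.orbitRel.Quotient G X) = Quotient.mk'' x),
        s y = s x := by
      intro y hy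
      obtain ⟨h, rfl⟩ := MulAction.orbitRel_apply.1 (Quotient.exact' (Finset.mem_filter.1 hy).2)
      exact h2 h x
    have h5 : (univ.filter (fun y : X => (Quotient.mk'' y : MulAction.orbitRel.Quotient G X) = Quotient.mk'' x)).card =
        (MulAction.stabilizer G x).index := by
      rw [MulAction.index_stabilizer, ← Nat.card_coe_set_eq, ← Nat.card_eq_finsetCard]
      refine Nat.card_congr (Equiv.subtypeEquivRight fun y => ?_)
      rw [Finset.mem_filter, Quotient.eq'', MulAction.orbitRel_apply]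
      simp
    rw [Finset.sum_congr rfl h4, Finset.sum_const, h5, ← Nat.cast_smul_eq_nsmul ℂ, smul_smul]
    have h6 := hX x
    rw [h3] at h6
    convert h6 using 2
    have h7 : (Nat.card G : ℂ) = Nat.card (MulAction.stabilizer G x) * (MulAction.stabilizer G x).index := by
      rw [← Subgroup.card_mul_index (MulAction.stabilizer G x)]
      push_cast
      rfl
    have h8 : ((MulAction.stabilizer G x).index : ℂ) ≠ 0 := by exact_mod_cast Subgroup.index_ne_zero_of_finite
    rw [h7, mul_inv, mul_assoc, inv_mul_cancel₀ h8, mul_one]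

end perm

variable {α : Type u} [Fintype α] [DecidableEq α]

/-- the Young subgroup of a colouring -/
def Yg {β : Type*} (f : α → β) : Subgroup (Perm α) where
  carrier := {g | ∀ x, f (g x) = f x}
  one_mem' _ := rfl
  mul_mem' {a b} ha hb x := (ha (b x)).trans (hb x)
  inv_mem' {a} ha x := by
    have h := ha (a⁻¹ x)
    rw [show a (a⁻¹ x) = x from a.apply_symm_apply x] at h
    exact h.symm

omit [Fintype α] [DecidableEq α] in
theorem mem_Yg {β : Type*} {f : α → β} {g : Perm α} : g ∈ Yg f ↔ ∀ x, f (g x) = f x := Iff.rfl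

theorem stabilizer_fib {m : ℕ} {a : Fin m → ℕ} (f : FibSet α a) : MulAction.stabilizer (Perm α) f = Yg f.1 := by
  ext g
  rw [← Subgroup.inv_mem_iff (H := Yg f.1), MulAction.mem_stabilizer_iff, mem_Yg]
  constructor
  · intro h x
    exact congrFun (congrArg Subtype.val h) x
  · intro h
    exact Subtype.ext (funext h)

/-- **The Young characters span.**  If the averages of a class function `r` over all Young subgroups lie in the lattice
`Λ`, then so do the averages against the irreducible characters. -/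
theorem young {V : Type*} [AddCommGroup V] [Module ℂ V] (Λ : AddSubgroup V) (r : Perm α → V)
    (hr : ∀ g h, r (h * g * h⁻¹) = r g)
    (hY : ∀ f : α → Fin (Fintype.card α), (Nat.card (Yg f) : ℂ)⁻¹ • ∑ᶠ u : Yg f, r u ∈ Λ)
    {μ : Perm α → ℂ} (hμ : IsIrrCharacter (Perm α) μ) : (Nat.card (Perm α) : ℂ)⁻¹ • ∑ g, μ g • r g ∈ Λ := by
  classical
  obtain ⟨β, -, -, rfl⟩ := irr_eq le_rfl hμ
  have h1 : ∀ g, ch α β g • r g = ∑ σ : Perm (Fin (Fintype.card α)),
      if ∀ i, ((σ i : Fin (Fintype.card α)) : ℕ) ≤ β i then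
        sg σ • ((Nat.card (MulAction.fixedBy (FibSet α fun i => β i - σ i) g) : ℂ) • r g) else 0 := by
    intro g
    rw [ch_apply, FM_ty, FV]
    push_cast
    rw [Finset.sum_smul]
    refine Finset.sum_congr rfl fun σ _ => ?_
    split_ifs
    · rw [card_fixedBy_fib, ← Int.cast_smul_eq_zsmul ℂ, smul_smul]
    · rw [zero_smul]
  rw [Finset.sum_congr rfl fun g _ => h1 g, Finset.sum_comm, Finset.smul_sum]
  refine Λ.sum_mem fun σ _ => ?_
  split_ifs with h
  · rw [← Finset.smul_sum, smul_comm]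
    refine Λ.zsmul_mem (perm_mem _ Λ r hr fun f => ?_) _
    rw [stabilizer_fib]
    exact hY f.1
  · rw [Finset.sum_const_zero, smul_zero]
    exact Λ.zero_mem

/-- the lattice of generalized characters -/
def genL (H : Type*) [Group H] : AddSubgroup (H → ℂ) where
  carrier := {χ | IsGeneralizedCharacter H χ}
  zero_mem' := Characters.Brauer.isGeneralizedCharacter_zero
  add_mem' := Characters.Brauer.isGeneralizedCharacter_add
  neg_mem' := Characters.Brauer.isGeneralizedCharacter_neg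

/-- `young` for generalized characters -/
theorem young_gen {H : Type*} [Group H] (r : Perm α → H → ℂ) (hr : ∀ g h, r (h * g * h⁻¹) = r g)
    (hY : ∀ f : α → Fin (Fintype.card α),
      IsGeneralizedCharacter H fun x => (Nat.card (Yg f) : ℂ)⁻¹ * ∑ᶠ u : Yg f, r u x)
    {μ : Perm α → ℂ} (hμ : IsIrrCharacter (Perm α) μ) :
    IsGeneralizedCharacter H fun x => (Nat.card (Perm α) : ℂ)⁻¹ * ∑ g, μ g * r g x := by
  classical
  have h := young (genL H) r hr (fun f => by
    have h1 := hY f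
    simp only [finsum_eq_sum_of_fintype] at h1 ⊢
    show IsGeneralizedCharacter H _
    convert h1 using 1
    funext x
    simp) hμ
  have h' : IsGeneralizedCharacter H _ := h
  convert h' using 1
  funext x
  simp

/-- the values of the irreducible characters are integers -/
theorem irr_int {μ : Perm α → ℂ} (hμ : IsIrrCharacter (Perm α) μ) (g : Perm α) : ∃ z : ℤ, μ g = z := by
  obtain ⟨β, -, -, rfl⟩ := irr_eq le_rfl hμ
  exact ⟨_, rfl⟩

/-- the number of irreducible characters of degree prime to `3` -/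
noncomputable def n3 (G : Type*) [Group G] : ℕ := Nat.card {μ : IrrCharacter G // ¬ 3 ∣ charDegree (μ : G → ℂ)}

theorem exists_fam {G : Type*} [Group G] [Finite G] {k : ℕ} (h : k ≤ n3 G) :
    ∃ μ : Fin k → IrrCharacter G, Function.Injective μ ∧ ∀ i, ¬ 3 ∣ charDegree (μ i : G → ℂ) := by
  have := finite_irr (G := G)
  have := Fintype.ofFinite {μ : IrrCharacter G // ¬ 3 ∣ charDegree (μ : G → ℂ)}
  obtain ⟨e⟩ : Nonempty (Fin k ↪ {μ : IrrCharacter G // ¬ 3 ∣ charDegree (μ : G → ℂ)}) :=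
    Function.Embedding.nonempty_of_card_le (by rwa [Fintype.card_fin, ← Nat.card_eq_fintype_card])
  exact ⟨fun i => (e i).1, Subtype.val_injective.comp e.injective, fun i => (e i).2⟩

theorem n3_le_of_surj {G H : Type*} [Group G] [Finite G] [Group H] (f : G →* H) (hf : Function.Surjective f) :
    n3 H ≤ n3 G := by
  have := finite_irr (G := G)
  refine Nat.card_le_card_of_injective (fun ψ : {μ : IrrCharacter H // ¬ 3 ∣ charDegree (μ : H → ℂ)} =>
    (⟨H684.BlockTools.infl f hf ψ.1, fun h => ψ.2 ?_⟩ : {μ : IrrCharacter G // ¬ 3 ∣ charDegree (μ : G → ℂ)})) ?_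
  · have h1 : charDegree ((H684.BlockTools.infl f hf ψ.1 : IrrCharacter G) : G → ℂ) = charDegree (ψ.1 : H → ℂ) := by
      apply Blocks.Basic.charDegree_of_eq
      show (ψ.1 : H → ℂ) (f 1) = _
      rw [map_one, ← Alt.deg_eq ψ.1.2]
    rwa [h1] at h
  · intro a b hab
    exact Subtype.ext (H684.BlockTools.infl_injective f hf (congrArg Subtype.val hab))

theorem k0_le_n3 {G : Type*} [Group G] [Finite G] (M : Ideal AlgInt) : k0 M G ≤ n3 G := by
  have := finite_irr (G := G)
  rw [k0_eq]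
  exact Nat.card_le_card_of_injective (fun ψ : {χ : IrrCharacter G // Mem M χ} =>
    (⟨ψ.1, ψ.2.2⟩ : {μ : IrrCharacter G // ¬ 3 ∣ charDegree (μ : G → ℂ)}))
    fun a b hab => Subtype.ext (by simpa using hab)

/-- the partitions (parts in increasing order) of `n = 3, …, 11` of degree prime to `3` -/
def parL : List (List (List ℕ)) :=
  [[[3], [1, 2], [1, 1, 1]],
   [[4], [2, 2], [1, 1, 1, 1]],
   [[5], [1, 4], [2, 3], [1, 2, 2], [1, 1, 1, 2], [1, 1, 1, 1, 1]],
   [[6], [1, 5], [1, 1, 4], [3, 3], [1, 2, 3], [1, 1, 1, 3], [2, 2, 2], [1, 1, 1, 1, 2], [1, 1, 1, 1, 1, 1]],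
   [[7], [2, 5], [3, 4], [1, 2, 4], [1, 1, 1, 4], [1, 1, 2, 3], [1, 2, 2, 2], [1, 1, 1, 2, 2], [1, 1, 1, 1, 1, 1, 1]],
   [[8], [1, 7], [2, 6], [3, 5], [1, 2, 5], [1, 1, 1, 5], [4, 4], [1, 3, 4], [2, 2, 4], [1, 1, 1, 1, 4],
    [1, 1, 3, 3], [1, 2, 2, 3], [1, 1, 1, 2, 3], [2, 2, 2, 2], [1, 1, 2, 2, 2], [1, 1, 1, 1, 2, 2],
    [1, 1, 1, 1, 1, 1, 2], [1, 1, 1, 1, 1, 1, 1, 1]],
   [[9], [1, 8], [1, 1, 7], [1, 1, 1, 6], [1, 1, 1, 1, 5], [1, 1, 1, 1, 1, 4], [1, 1, 1, 1, 1, 1, 3],
    [1, 1, 1, 1, 1, 1, 1, 2], [1, 1, 1, 1, 1, 1, 1, 1, 1]],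
   [[10], [2, 8], [1, 2, 7], [1, 1, 2, 6], [1, 1, 1, 2, 5], [1, 1, 1, 1, 2, 4], [1, 1, 1, 1, 1, 2, 3],
    [1, 1, 1, 1, 1, 1, 2, 2], [1, 1, 1, 1, 1, 1, 1, 1, 1, 1]],
   [[11], [1, 10], [2, 9], [3, 8], [1, 3, 7], [2, 2, 7], [1, 1, 3, 6], [1, 2, 2, 6], [1, 1, 1, 3, 5],
    [1, 1, 2, 2, 5], [1, 1, 1, 1, 3, 4], [1, 1, 1, 2, 2, 4], [1, 1, 1, 1, 1, 3, 3], [1, 1, 1, 1, 2, 2, 3],
    [1, 1, 1, 1, 1, 2, 2, 2], [1, 1, 1, 1, 1, 1, 1, 2, 2], [1, 1, 1, 1, 1, 1, 1, 1, 1, 2],
    [1, 1, 1, 1, 1, 1, 1, 1, 1, 1, 1]]]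

/-- the beta-sets -/
def bt (n a : ℕ) (i : Fin 11) : ℕ := i + ((parL.getD n []).getD a []).reverse.getD (10 - i) 0

/-- the numbers -/
def nb (n : ℕ) : ℕ := (parL.getD n []).length

theorem bt_chk : ∀ n : Fin 9, ∀ a : Fin (nb n), (∀ i j, i < j → bt n a i < bt n a j) ∧
    ∑ i, bt n a i = (3 + n) + ∑ i : Fin 11, (i : ℕ) ∧
    ¬ 3 * ∏ i, ((bt n a i).factorial : ℤ) ∣
      (3 + n : ℕ).factorial * ∏ i, ∏ j ∈ Finset.Ioi i, ((bt n a j : ℤ) - bt n a i) := by
  decide +kernel

theorem bt_inj : ∀ n : Fin 9, ∀ a b : Fin (nb n), (∀ i, bt n a i = bt n b i) → a = b := by decide +kernel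

theorem nb_le (n : Fin 9) : nb n ≤ n3 (Perm (Fin (3 + n))) := by
  have := finite_irr (G := Perm (Fin (3 + n)))
  have h1 : ∀ a : Fin (nb n), StrictMono (bt n a) := fun a i j hij => (bt_chk n a).1 i j hij
  have h2 : ∀ a : Fin (nb n), ∑ i, bt n a i = Fintype.card (Fin (3 + n)) + ∑ i : Fin 11, (i : ℕ) := fun a => by
    rw [Fintype.card_fin]
    exact (bt_chk n a).2.1
  have h := Nat.card_le_card_of_injective (fun a : Fin (nb n) =>
    (⟨⟨ch (Fin (3 + n)) (bt n a), isIrr_ch (h1 a) (h2 a)⟩, fun h3 => (bt_chk n a).2.2 (by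
      rw [← FM_ones_formula _ _ (bt_chk n a).2.1, ← Alt.charDegree_ch (h1 a) (bt_chk n a).2.1]
      exact mul_dvd_mul_right (by exact_mod_cast h3) _)⟩ :
      {μ : IrrCharacter (Perm (Fin (3 + n))) // ¬ 3 ∣ charDegree (μ : Perm (Fin (3 + n)) → ℂ)}))
    fun a b hab => bt_inj n a b (congrFun (ch_inj (h1 a) (h1 b) (h2 a)
      (congrArg Subtype.val (congrArg Subtype.val hab))))
  rwa [Nat.card_fin] at h

omit [DecidableEq α] in
theorem n3_fin_le : n3 (Perm (Fin (Fintype.card α))) ≤ n3 (Perm α) :=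
  n3_le_of_surj (Fintype.equivFin α).permCongrHom.toMonoidHom (Fintype.equivFin α).permCongrHom.surjective

theorem twenty_le (h : 12 ≤ Fintype.card α) : 20 ≤ n3 (Perm α) := by
  obtain ⟨M, hM⟩ := Cfsg.Agent.Blocks.ExistsModular.exists_isPModular Nat.prime_three
  exact ((Alt.twenty hM h).trans (k0_le_n3 M)).trans n3_fin_le

theorem nb_le' {n : ℕ} (hn : n < 9) (h : Fintype.card α = 3 + n) : nb n ≤ n3 (Perm α) := by
  refine le_trans ?_ n3_fin_le
  rw [h]
  exact nb_le ⟨n, hn⟩

theorem three_le (h : 3 ≤ Fintype.card α) : 3 ≤ n3 (Perm α) := by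
  by_cases h1 : 12 ≤ Fintype.card α
  · exact le_trans (by norm_num) (twenty_le h1)
  · exact le_trans ((by decide : ∀ n < 9, 3 ≤ nb n) _ (by omega))
      (nb_le' (n := Fintype.card α - 3) (by omega) (by omega))

theorem six_le (h : 5 ≤ Fintype.card α) : 6 ≤ n3 (Perm α) := by
  by_cases h1 : 12 ≤ Fintype.card α
  · exact le_trans (by norm_num) (twenty_le h1)
  · exact le_trans ((by decide : ∀ n < 9, 2 ≤ n → 6 ≤ nb n) _ (by omega) (by omega))
      (nb_le' (n := Fintype.card α - 3) (by omega) (by omega))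

theorem nine_le (h : 6 ≤ Fintype.card α) : 9 ≤ n3 (Perm α) := by
  by_cases h1 : 12 ≤ Fintype.card α
  · exact le_trans (by norm_num) (twenty_le h1)
  · exact le_trans ((by decide : ∀ n < 9, 3 ≤ n → 9 ≤ nb n) _ (by omega) (by omega))
      (nb_le' (n := Fintype.card α - 3) (by omega) (by omega))

theorem eighteen_le (h : Fintype.card α = 8 ∨ 11 ≤ Fintype.card α) : 18 ≤ n3 (Perm α) := by
  by_cases h1 : 12 ≤ Fintype.card α
  · exact le_trans (by norm_num) (twenty_le h1)
  · exact le_trans ((by decide : ∀ n < 9, n = 5 ∨ n = 8 → 18 ≤ nb n) _ (by omega) (by omega))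
      (nb_le' (n := Fintype.card α - 3) (by omega) (by omega))

end Cfsg.Agent.KZ.Sym
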